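import Cfsg.Agent.Helper42.B43c.PBDefs
import Cfsg.Agent.Helper74.DefectZero
import Cfsg.Agent.Helper78.IrrTransport
import Cfsg.Agent.Helper79.PrincipalCrit

/-!
# Piece (F0) of S4700 (helper42): existence of the block data `PBlk`
-/

set_option autoImplicit false

namespace Cfsg.Agent.Helper31.B43c

open Cfsg Cfsg.Agent.Helper42.B43c

universe u

variable {G : Type u} [Group G] [Fintype G] {p : ℕ} [Fact p.Prime] (P : Sylow p G)

/-- (F0) existence of the block data: `Helper16.DefOne.principal_structure`,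
`Helper79.principalIrr_mem`, and `Helper16.block_orthogonality` with `g = x`, `h = 1`. -/
theorem exists_PBlk (hP : Nat.card P = p) :
    Nonempty (PBlk P ((Subgroup.centralizer ((P : Subgroup G) : Set G)).relIndex
      (Subgroup.normalizer ((P : Subgroup G) : Set G)))) := by
  classical
  have hp : p.Prime := Fact.out
  obtain ⟨M, hM⟩ := Cfsg.Agent.Helper74.exists_isPModular p hp
  obtain ⟨X, Y, hXY, hdisj, hcX, hcY, εX, ε, hX, hε, hdegY, hYeq, hrel⟩ :=
    Cfsg.Agent.Helper16.DefOne.principal_structure M P hM hP _ rfl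
  refine ⟨{
    X := X
    Y := Y
    εX := εX
    ε := ε
    hdisj := hdisj
    hcX := hcX
    hcY := hcY
    hεX := fun χ hχ => (hX χ hχ).1
    hdegX := fun χ hχ => (hX χ hχ).2.1
    hvalX := fun χ hχ => (hX χ hχ).2.2
    hε := hε
    hdegY := hdegY
    hYeq := hYeq
    hrel := hrel
    hprinc := ?_
    horth := ?_ }⟩
  · rw [← hXY]
    exact Cfsg.Agent.Helper79.principalIrr_mem hM
  · intro x hx hx1
    rw [← hXY]
    have hxo : ∃ k : ℕ, orderOf x = p ^ k := by
      obtain ⟨k, hk⟩ := IsPGroup.iff_orderOf.mp P.isPGroup' ⟨x, hx⟩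
      exact ⟨k, by rw [← hk, Subgroup.orderOf_mk]⟩
    have h1o : ¬ p ∣ orderOf (1 : G) := by
      rw [orderOf_one]
      exact hp.not_dvd_one
    have h := Cfsg.Agent.Helper16.block_orthogonality hM x 1 x 1
      ⟨1, mul_one x, Commute.one_right x, hxo, h1o⟩
      ⟨1, mul_one 1, Commute.one_right 1, ⟨0, by rw [orderOf_one, pow_zero]⟩, h1o⟩
      (fun h => hx1 (isConj_one_left.mp h)) (principalBlock M G)
      (Cfsg.Agent.Helper78.isPBlock_principalBlock M G)
    rw [inv_one] at h
    exact h

end Cfsg.Agent.Helper31.B43c
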